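import Groth.Agent.Lib.GrothSS.Hyper
import Groth.Agent.Lib.DerCat.Stupid
import Groth.Agent.Lib.CohDer19.InjAmp
import Groth.Agent.Lib.CohDer19.Embed

/-! # Vanishing for hypercohomology of a bounded below complex from that of its terms -/

set_option autoImplicit false
set_option linter.style.haveILetI false
set_option maxHeartbeats 1000000
set_option backward.isDefEq.respectTransparency false

universe v v' u u'

open CategoryTheory CategoryTheory.Limits HomologicalComplex CochainComplex

attribute [local instance] HasDerivedCategory.standard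

namespace GrothLib.DepthHyper22

variable {A : Type u} [Category.{v} A] [Abelian A] [EnoughInjectives A]
  {B : Type u'} [Category.{v'} B] [Abelian B] (S : A ⥤ B) [S.Additive]

/-- The cohomology in degree `n` of `S` on bounded below injective representatives of `C` vanishes. -/
def Hz (C : CochainComplex A ℤ) (n : ℤ) : Prop :=
  ∀ (M : CochainComplex A ℤ), (∃ a : ℤ, M.IsStrictlyGE a) → (∀ i, Injective (M.X i)) →
    Nonempty (DerivedCategory.Q.obj M ≅ DerivedCategory.Q.obj C) →
      IsZero (((S.mapHomologicalComplex (ComplexShape.up ℤ)).obj M).homology n)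

/-- Extensions. -/
theorem hz_of_shortExact {T : ShortComplex (CochainComplex A ℤ)} (hT : T.ShortExact) (a : ℤ) [T.X₁.IsStrictlyGE a]
    {n : ℤ} (h₁ : Hz S T.X₁ n) (h₃ : Hz S T.X₃ n) : Hz S T.X₂ n := by
  rintro M₂ ⟨b, hb⟩ hM₂ ⟨e₂⟩
  haveI := hb
  obtain ⟨M₁, hge₁, hM₁, ⟨e₁⟩⟩ := GrothLib.CohDer19.InjAmp.exists_injective_rep (DerivedCategory.Q.obj T.X₁) a
  haveI := hge₁
  haveI : M₂.IsKInjective := CochainComplex.isKInjective_of_injective M₂ b
  let g : DerivedCategory.Q.obj M₁ ⟶ DerivedCategory.Q.obj M₂ := e₁.hom ≫ DerivedCategory.Q.map T.f ≫ e₂.inv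
  let q := DerivedCategory.quotientCompQhIso A
  obtain ⟨f', hf'⟩ := (CochainComplex.IsKInjective.Qh_map_bijective
    ((HomotopyCategory.quotient A (ComplexShape.up ℤ)).obj M₁) M₂).2 (q.hom.app M₁ ≫ g ≫ q.inv.app M₂)
  obtain ⟨f, rfl⟩ := (HomotopyCategory.quotient A (ComplexShape.up ℤ)).map_surjective f'
  have hf : DerivedCategory.Q.map f = g := by
    have h := q.hom.naturality f
    simp only [Functor.comp_map] at h
    rw [hf', Category.assoc, Category.assoc, Iso.inv_hom_id_app] at h
    erw [Category.comp_id] at h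
    exact ((cancel_epi (q.hom.app M₁)).1 h).symm
  -- the cone
  let iso := Pretriangulated.isoTriangleOfIso₁₂ (DerivedCategory.Q.mapTriangle.obj (mappingCone.triangle f))
    (DerivedCategory.triangleOfSES hT) (DerivedCategory.mappingCone_triangle_distinguished f)
    (DerivedCategory.triangleOfSES_distinguished hT) e₁ e₂ (by
      change DerivedCategory.Q.map f ≫ e₂.hom = e₁.hom ≫ DerivedCategory.Q.map T.f
      rw [hf]
      simp [g])
  haveI : M₁.IsStrictlyGE (min a b) := M₁.isStrictlyGE_of_ge (min a b) a (min_le_left a b)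
  haveI : M₂.IsStrictlyGE (min a b) := M₂.isStrictlyGE_of_ge (min a b) b (min_le_right a b)
  have hge : (mappingCone f).IsStrictlyGE (min a b - 1) :=
    CochainComplex.isStrictlyGE_mappingCone f (min a b) (min a b) (min a b - 1)
  have hC : IsZero (((S.mapHomologicalComplex (ComplexShape.up ℤ)).obj (mappingCone f)).homology n) :=
    h₃ (mappingCone f) ⟨_, hge⟩
      (fun i => @GrothLib.CohDer19.injective_mappingCone_X _ _ _ _ _ f hM₁ hM₂ i)
      ⟨(Pretriangulated.Triangle.π₃.mapIso iso)⟩
  have h1 : IsZero (((S.mapHomologicalComplex (ComplexShape.up ℤ)).obj M₁).homology n) :=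
    h₁ M₁ ⟨a, inferInstance⟩ hM₁ ⟨e₁⟩
  -- the long exact sequence
  let G := HomotopyCategory.homologyFunctor B (ComplexShape.up ℤ) 0
  let F := S.mapHomotopyCategory (ComplexShape.up ℤ)
  have hd := F.map_distinguished _ (HomotopyCategory.mappingCone_triangleh_distinguished f)
  let eF : ∀ K : CochainComplex A ℤ, (G.shift n).obj (F.obj ((HomotopyCategory.quotient A (ComplexShape.up ℤ)).obj K)) ≅
      ((S.mapHomologicalComplex (ComplexShape.up ℤ)).obj K).homology n := fun K =>
    (HomotopyCategory.homologyFunctor B (ComplexShape.up ℤ) n).mapIso ((S.mapHomotopyCategoryFactors (ComplexShape.up ℤ)).app K) ≪≫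
      (HomotopyCategory.homologyFunctorFactors B (ComplexShape.up ℤ) n).app _
  refine IsZero.of_iso ?_ (eF M₂).symm
  exact (G.homologySequence_exact₂ _ hd n).isZero_of_both_zeros
    ((h1.of_iso (eF M₁)).eq_of_src _ _) ((hC.of_iso (eF (mappingCone f))).eq_of_tgt _ _)

/-- Bounded below injective representatives of one object are homotopy equivalent. -/
theorem nonempty_quotient_iso {M M' : CochainComplex A ℤ} [M.IsKInjective] [M'.IsKInjective]
    (e : DerivedCategory.Q.obj M' ≅ DerivedCategory.Q.obj M) :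
    Nonempty ((HomotopyCategory.quotient A (ComplexShape.up ℤ)).obj M' ≅
      (HomotopyCategory.quotient A (ComplexShape.up ℤ)).obj M) := by
  let qA := HomotopyCategory.quotient A (ComplexShape.up ℤ)
  let q := DerivedCategory.quotientCompQhIso A
  obtain ⟨φ, hφ⟩ := (CochainComplex.IsKInjective.Qh_map_bijective (qA.obj M') M).2
    (q.hom.app M' ≫ e.hom ≫ q.inv.app M)
  obtain ⟨ψ, hψ⟩ := (CochainComplex.IsKInjective.Qh_map_bijective (qA.obj M) M').2
    (q.hom.app M ≫ e.inv ≫ q.inv.app M')
  exact ⟨{ hom := φ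
           inv := ψ
           hom_inv_id := (CochainComplex.IsKInjective.Qh_map_bijective (qA.obj M') M').1 (by simp [hφ, hψ]; exact (DerivedCategory.Qh.map_id _).symm)
           inv_hom_id := (CochainComplex.IsKInjective.Qh_map_bijective (qA.obj M) M).1 (by simp [hφ, hψ]; exact (DerivedCategory.Qh.map_id _).symm) }⟩

/-- The cohomology of `S` does not depend on the representative. -/
theorem nonempty_homology_iso {M M' : CochainComplex A ℤ} [M.IsKInjective] [M'.IsKInjective]
    (e : DerivedCategory.Q.obj M' ≅ DerivedCategory.Q.obj M) (n : ℤ) :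
    Nonempty (((S.mapHomologicalComplex (ComplexShape.up ℤ)).obj M').homology n ≅
      ((S.mapHomologicalComplex (ComplexShape.up ℤ)).obj M).homology n) := by
  obtain ⟨i⟩ := nonempty_quotient_iso e
  exact ⟨((HomotopyCategory.homologyFunctorFactors B (ComplexShape.up ℤ) n).app _).symm ≪≫
    (HomotopyCategory.homologyFunctor B (ComplexShape.up ℤ) n).mapIso
      (((S.mapHomotopyCategoryFactors (ComplexShape.up ℤ)).app M').symm ≪≫
        (S.mapHomotopyCategory (ComplexShape.up ℤ)).mapIso i ≪≫
        (S.mapHomotopyCategoryFactors (ComplexShape.up ℤ)).app M) ≪≫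
    (HomotopyCategory.homologyFunctorFactors B (ComplexShape.up ℤ) n).app _⟩

/-- It is enough to check one representative. -/
theorem hz_of_rep {C M : CochainComplex A ℤ} {a : ℤ} [M.IsStrictlyGE a] (hM : ∀ i, Injective (M.X i))
    (e : DerivedCategory.Q.obj M ≅ DerivedCategory.Q.obj C) {n : ℤ}
    (h : IsZero (((S.mapHomologicalComplex (ComplexShape.up ℤ)).obj M).homology n)) : Hz S C n := by
  rintro M' ⟨b, hb⟩ hM' ⟨e'⟩
  haveI := hb
  haveI : M.IsKInjective := CochainComplex.isKInjective_of_injective M a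
  haveI : M'.IsKInjective := CochainComplex.isKInjective_of_injective M' b
  obtain ⟨i⟩ := nonempty_homology_iso S (e' ≪≫ e.symm) n
  exact h.of_iso i

/-- Below the lower bound. -/
theorem hz_low {C : CochainComplex A ℤ} {a : ℤ} [C.IsStrictlyGE a] {n : ℤ} (hn : n < a) : Hz S C n := by
  obtain ⟨M, hge, hM, ⟨e⟩⟩ := GrothLib.CohDer19.InjAmp.exists_injective_rep (DerivedCategory.Q.obj C) a
  haveI := hge
  exact hz_of_rep S (a := a) hM e (ShortComplex.isZero_homology_of_isZero_X₂ _ (S.map_isZero (M.isZero_of_isStrictlyGE a n hn)))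

/-- A complex with one term. -/
theorem hz_oneTerm {C : CochainComplex A ℤ} (a : ℤ) (hC : ∀ i, i ≠ a → IsZero (C.X i)) (p : ℕ)
    (h : ∀ X : A, Nonempty (X ≅ C.X a) → IsZero ((S.rightDerived p).obj X)) : Hz S C (a + p) := by
  haveI : C.IsStrictlyGE a := (C.isStrictlyGE_iff a).2 fun i hi => hC i (by omega)
  obtain ⟨M, hge, hM, ⟨e⟩⟩ := GrothLib.CohDer19.InjAmp.exists_injective_rep (DerivedCategory.Q.obj C) a
  haveI := hge
  haveI : M.IsKInjective := CochainComplex.isKInjective_of_injective M a
  let eH : ∀ i, M.homology i ≅ C.homology i := fun i =>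
    ((DerivedCategory.homologyFunctorFactors A i).app M).symm ≪≫
      (DerivedCategory.homologyFunctor A i).mapIso e ≪≫ (DerivedCategory.homologyFunctorFactors A i).app C
  obtain ⟨eS⟩ := GrothLib.GrothSS.nonempty_homology_map_iso_rightDerived S M a (fun i hi => by
    rw [HomologicalComplex.exactAt_iff_isZero_homology]
    exact (ShortComplex.isZero_homology_of_isZero_X₂ _ (hC i hi)).of_iso (eH i)) p (a + p) rfl
  refine hz_of_rep S (a := a) hM e ((h (M.homology a) ⟨eH a ≪≫ ?_⟩).of_iso eS)
  exact (ShortComplex.HomologyData.ofZeros (C.sc a) ((hC _ (by simp)).eq_of_src _ _)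
    ((hC _ (by simp)).eq_of_tgt _ _)).left.homologyIso

/-- **Dévissage**: if `R^q S` of every term vanishes for `q < c`, the cohomology in degrees `< d + c` vanishes. -/
theorem hz_of_terms (c : ℕ) (P : A → Prop) (hP : ∀ X, P X → ∀ q : ℕ, q < c → IsZero ((S.rightDerived q).obj X))
    (hPiso : ∀ X Y : A, Nonempty (X ≅ Y) → P Y → P X) :
    ∀ (k : ℕ) (d : ℤ) (C : CochainComplex A ℤ), C.IsStrictlyGE d → (∀ i, d ≤ i → P (C.X i)) →
      ∀ n : ℤ, n < d + k → n < d + c → Hz S C n := by
  intro k
  induction k with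
  | zero => exact fun d C hC _ n hn _ => by haveI := hC; exact hz_low S (a := d) (by omega)
  | succ k ih =>
    intro d C hC hterm n hn hnc
    haveI := hC
    by_cases hlt : n < d
    · exact hz_low S (a := d) hlt
    have hge : (GrothLib.DerCat.sGE C (d + 1)).IsStrictlyGE (d + 1) :=
      (CochainComplex.isStrictlyGE_iff _ _).2 fun i hi => GrothLib.DerCat.isZero_sGE C hi
    haveI : (GrothLib.DerCat.stupidSeq C (d + 1)).X₁.IsStrictlyGE (d + 1) := hge
    refine hz_of_shortExact S (GrothLib.DerCat.stupidSeq_shortExact C (d + 1)) (d + 1)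
      (ih (d + 1) _ hge (fun i hi => hPiso _ _ ⟨GrothLib.DerCat.sGEXIso C hi⟩ (hterm i (by omega))) n (by omega) (by omega)) ?_
    obtain ⟨p, rfl⟩ : ∃ p : ℕ, n = d + p := ⟨(n - d).toNat, by omega⟩
    refine hz_oneTerm S d (fun i hi => ?_) p fun X ⟨eX⟩ => hP X (hPiso X (C.X d) ⟨?_⟩ (hterm d le_rfl)) p (by omega)
    · by_cases h : i < d
      · exact (C.isZero_of_isStrictlyGE d i h).of_iso (GrothLib.DerCat.sLEXIso C (by omega))
      · exact GrothLib.DerCat.isZero_sLE C (by omega)
    · exact eX ≪≫ GrothLib.DerCat.sLEXIso C (by omega)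

end GrothLib.DepthHyper22
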