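import Groth.Agent.Lib.DepthHyper22.Devissage
import Groth.Agent.Lib.LocZ.SS
import Groth.Agent.Lib.GrothSS.Acyclic

/-! # Global sections of a complex of flasque sheaves with vanishing low cohomology -/

set_option autoImplicit false
set_option linter.style.haveILetI false
set_option maxHeartbeats 1000000
set_option backward.isDefEq.respectTransparency false

universe v v' u u'

open CategoryTheory CategoryTheory.Limits HomologicalComplex CochainComplex

attribute [local instance] HasDerivedCategory.standard

namespace GrothLib.DepthHyper22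

variable {A : Type u} [Category.{v} A] [Abelian A] [EnoughInjectives A]
  {B : Type u'} [Category.{v'} B] [Abelian B] (S : A ⥤ B) [S.Additive] [PreservesFiniteLimits S]

/-- A left exact functor on a bounded below complex of acyclics with vanishing low cohomology. -/
theorem map_low_homology (N : CochainComplex A ℤ) (a : ℤ) [N.IsStrictlyGE a]
    (hac : ∀ i, GrothSS.IsAcyclicObj S (N.X i)) (m : ℤ) (hm : ∀ q, q < m → IsZero (N.homology q)) :
    (∀ q, q < m → IsZero (((S.mapHomologicalComplex (ComplexShape.up ℤ)).obj N).homology q)) ∧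
      Nonempty (((S.mapHomologicalComplex (ComplexShape.up ℤ)).obj N).homology m ≅ S.obj (N.homology m)) := by
  obtain ⟨L, hL, f, hf⟩ := CochainComplex.Plus.exists_quasiIso_injective (C := A) ⟨N, a, inferInstance⟩ a
  let I : CochainComplex A ℤ := ((InjectiveObject.ι A).mapHomologicalComplex (.up ℤ)).obj L.obj
  haveI : I.IsStrictlyGE a :=
    (CochainComplex.isStrictlyGE_mapHomologicalComplex_obj_iff _ (InjectiveObject.ι _) _).2 hL
  have hI : ∀ i, Injective (I.X i) := fun i => (L.obj.X i).property
  haveI : I.IsKInjective := CochainComplex.isKInjective_of_injective I a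
  let g : N ⟶ I := f.hom
  haveI : QuasiIso g := hf
  haveI := GrothSS.quasiIso_map S g a hac (fun i => haveI := hI i; GrothSS.isAcyclicObj_of_injective S _)
  haveI : (DerivedCategory.Q.obj N).IsGE m := (DerivedCategory.isGE_iff _ _).2 fun q hq =>
    (hm q hq).of_iso ((DerivedCategory.homologyFunctorFactors A q).app N)
  obtain ⟨J, hJ, hJi, ⟨eJ⟩⟩ := GrothLib.CohDer19.InjAmp.exists_injective_rep (DerivedCategory.Q.obj N) m
  haveI := hJ
  haveI : J.IsKInjective := CochainComplex.isKInjective_of_injective J m
  let e : DerivedCategory.Q.obj I ≅ DerivedCategory.Q.obj J :=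
    (asIso (DerivedCategory.Q.map g)).symm ≪≫ eJ.symm
  have eH : ∀ q, Nonempty (((S.mapHomologicalComplex (ComplexShape.up ℤ)).obj N).homology q ≅
      ((S.mapHomologicalComplex (ComplexShape.up ℤ)).obj J).homology q) := fun q => by
    obtain ⟨i⟩ := nonempty_homology_iso S e q
    exact ⟨isoOfQuasiIsoAt ((S.mapHomologicalComplex (ComplexShape.up ℤ)).map g) q ≪≫ i⟩
  refine ⟨fun q hq => (ShortComplex.isZero_homology_of_isZero_X₂ _ (S.map_isZero
    (J.isZero_of_isStrictlyGE m q hq))).of_iso (eH q).some, ?_⟩
  have h0 : IsZero (J.X (m - 1)) := J.isZero_of_isStrictlyGE m _ (by omega)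
  haveI : IsIso (J.homologyπ m) := J.isIso_homologyπ (m - 1) m (by simp) (h0.eq_of_src _ _)
  haveI : IsIso (((S.mapHomologicalComplex (ComplexShape.up ℤ)).obj J).homologyπ m) :=
    ((S.mapHomologicalComplex (ComplexShape.up ℤ)).obj J).isIso_homologyπ (m - 1) m (by simp)
      ((S.map_isZero h0).eq_of_src _ _)
  exact ⟨(eH m).some ≪≫ (asIso (((S.mapHomologicalComplex (ComplexShape.up ℤ)).obj J).homologyπ m)).symm ≪≫
    ((isLimitForkMapOfIsLimit' S (J.iCycles_d m (m + 1)) (J.cyclesIsKernel m (m + 1) (by simp))).conePointUniqueUpToIso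
      (((S.mapHomologicalComplex (ComplexShape.up ℤ)).obj J).cyclesIsKernel m (m + 1) (by simp))).symm ≪≫
    S.mapIso (asIso (J.homologyπ m) ≪≫ ((DerivedCategory.homologyFunctorFactors A m).app J).symm ≪≫
      (DerivedCategory.homologyFunctor A m).mapIso eJ ≪≫ (DerivedCategory.homologyFunctorFactors A m).app N)⟩

end GrothLib.DepthHyper22
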