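import Groth.Agent.Lib.DepthHyper22.Sheaf
import Groth.Agent.Lib.DepthHyper22.Flasque
import Groth.Agent.Lib.KInj.Derived
import Groth.Agent.Lib.Cohom.InjModule
import Groth.Prelude.Def_CxOX

/-! # Hypercohomology with supports below twice the depth -/

set_option autoImplicit false
set_option linter.style.haveILetI false
set_option maxHeartbeats 1000000
set_option backward.isDefEq.respectTransparency false

universe u

open CategoryTheory CategoryTheory.Limits AlgebraicGeometry Opposite TopologicalSpace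

attribute [local instance] HasDerivedCategory.standard

noncomputable section

namespace GrothLib.DepthHyper22

open GrothLib

section Rep

variable {X : Scheme.{u}} {B : Type*} [Category B] [Abelian B] [HasDerivedCategory B] (S : X.Modules ⥤ B) [S.Additive]
    [(S.mapHomotopyCategory (ComplexShape.up ℤ) ⋙ DerivedCategory.Qh).HasRightDerivedFunctor
      (HomotopyCategory.quasiIso X.Modules (ComplexShape.up ℤ))]

/-- The total right derived functor on an injective representative. -/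
theorem nonempty_totalRightDerived_iso (M : CochainComplex X.Modules ℤ) [M.IsKInjective] {E : DCoh.D X}
    (e : DerivedCategory.Q.obj M ≅ E) (i : ℤ) :
    Nonempty ((DerivedCategory.homologyFunctor B i).obj
      (((S.mapHomotopyCategory (ComplexShape.up ℤ) ⋙ DerivedCategory.Qh).totalRightDerived DerivedCategory.Qh
        (HomotopyCategory.quasiIso X.Modules (ComplexShape.up ℤ))).obj E) ≅
      ((S.mapHomologicalComplex (ComplexShape.up ℤ)).obj M).homology i) := by
  haveI : IsGrothendieckAbelian.{u} X.Modules := inferInstance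
  let G := S.mapHomotopyCategory (ComplexShape.up ℤ) ⋙ DerivedCategory.Qh
  let qM := (HomotopyCategory.quotient X.Modules (ComplexShape.up ℤ)).obj M
  haveI := KInj.isIso_unit_of_rightOrthogonal (X := qM) (CochainComplex.IsKInjective.rightOrthogonal M)
  let eR : (G.totalRightDerived DerivedCategory.Qh (HomotopyCategory.quasiIso X.Modules (ComplexShape.up ℤ))).obj E ≅
      G.obj qM :=
    (G.totalRightDerived DerivedCategory.Qh (HomotopyCategory.quasiIso X.Modules (ComplexShape.up ℤ))).mapIso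
      (e.symm ≪≫ ((DerivedCategory.quotientCompQhIso X.Modules).app M).symm) ≪≫
      (KInj.totalRightDerivedIso G).app _ ≪≫ (asIso (G.map ((KInj.resAdj X.Modules).unit.app qM))).symm
  let FM := (S.mapHomologicalComplex (ComplexShape.up ℤ)).obj M
  let eQ : G.obj qM ≅ DerivedCategory.Q.obj FM :=
    DerivedCategory.Qh.mapIso ((S.mapHomotopyCategoryFactors (ComplexShape.up ℤ)).app M) ≪≫
      (DerivedCategory.quotientCompQhIso B).app FM
  exact ⟨(DerivedCategory.homologyFunctor B i).mapIso (eR ≪≫ eQ) ≪≫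
    (DerivedCategory.homologyFunctorFactors B i).app FM⟩

end Rep

variable {U X : Scheme.{u}} [IsLocallyNoetherian X] (j : U ⟶ X) [IsOpenImmersion j] (d : ℕ)
    (hdepth : ∀ y : ↥X, y ∉ Set.range j.base →
      (d : ℕ∞) ≤ LocCoh.depth ↑(X.presheaf.stalk y) ↑(X.presheaf.stalk y))
    (K : CochainComplex X.Modules ℤ) (hK : ∀ i : ℤ, i < (d : ℤ) → IsZero (K.X i))
    (hKlf : ∀ i : ℤ, FlatMod.IsFinLocFree (K.X i))

include hdepth hK hKlf in
theorem exists_rep : ∃ M : CochainComplex X.Modules ℤ, M.IsKInjective ∧ Nonempty (DerivedCategory.Q.obj M ≅ DCoh.toD X K) ∧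
    (∀ n, n < 2 * (d : ℤ) → IsZero ((((CxOX.sectZAb j)).mapHomologicalComplex (ComplexShape.up ℤ)).obj M |>.homology n)) ∧
    Nonempty (((((CxOX.sectZAb j)).mapHomologicalComplex (ComplexShape.up ℤ)).obj M).homology (2 * (d : ℤ)) ≅
      (GrothSS.secAt (Opens.grothendieckTopology X) ⊤).obj
        ((QCoh.toAbFun X).obj ((((DCoh.gammaZ j).mapHomologicalComplex (ComplexShape.up ℤ)).obj M).homology (2 * (d : ℤ))))) := by
  haveI : EnoughInjectives X.Modules := inferInstance
  haveI : HasInjectiveResolutions X.Modules := inferInstance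
  haveI hKge : K.IsStrictlyGE (d : ℤ) := (K.isStrictlyGE_iff _).2 hK
  obtain ⟨M, hge, hM, ⟨eM⟩⟩ := CohDer19.InjAmp.exists_injective_rep (DerivedCategory.Q.obj K) (d : ℤ)
  haveI := hge
  refine ⟨M, CochainComplex.isKInjective_of_injective M (d : ℤ), ⟨eM⟩, ?_⟩
  let GM := ((DCoh.gammaZ j).mapHomologicalComplex (ComplexShape.up ℤ)).obj M
  have hG : ∀ n, n < 2 * (d : ℤ) → IsZero (GM.homology n) := fun n hn =>
    hz_of_terms (DCoh.gammaZ j) d (fun F => FlatMod.IsFinLocFree F)
      (fun F hF q hq => isZero_rightDerived_gammaZ j d hdepth F hF q hq)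
      (fun F G ⟨e⟩ hG x => by
        obtain ⟨V, m, hx, ⟨f⟩⟩ := hG x
        exact ⟨V, m, hx, ⟨(Scheme.Modules.restrictFunctor V.ι).mapIso e ≪≫ f⟩⟩)
      d (d : ℤ) K hKge (fun i _ => hKlf i) n (by omega) (by omega) M ⟨_, hge⟩ hM ⟨eM⟩
  haveI : (QCoh.toAbFun X).PreservesHomology := Functor.preservesHomologyOfExact _
  let N : CochainComplex (Sheaf (Opens.grothendieckTopology X) AddCommGrpCat.{u}) ℤ :=
    ((QCoh.toAbFun X).mapHomologicalComplex (ComplexShape.up ℤ)).obj GM
  haveI : N.IsStrictlyGE (d : ℤ) := (N.isStrictlyGE_iff _).2 fun i hi =>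
    (QCoh.toAbFun X).map_isZero ((DCoh.gammaZ j).map_isZero (M.isZero_of_isStrictlyGE (d : ℤ) i hi))
  let 𝒮 := GrothSS.secAt (Opens.grothendieckTopology X) (⊤ : Opens X)
  have hac : ∀ i, GrothSS.IsAcyclicObj 𝒮 (N.X i) := fun i => by
    haveI := hM i
    haveI := Cohom.isFlasque_toAb_of_injective (M.X i)
    haveI := LocZ.isFlasque_sectSupp (X := X.carrier) j.opensRange ((QCoh.toAbFun X).obj (M.X i))
    exact GrothSS.isAcyclicObj_of_iso 𝒮 ((τIso j).app (M.X i)).symm fun k =>
      LocZ.isZero_rightDerived_secAt_of_flasque (X := X.carrier) ⊤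
        (CohCx.sectSupp j.opensRange ((QCoh.toAbFun X).obj (M.X i))) k
  let eN : ∀ q, N.homology q ≅ (QCoh.toAbFun X).obj (GM.homology q) := fun q =>
    (GM.sc q).mapHomologyIso (QCoh.toAbFun X)
  obtain ⟨h1, ⟨h2⟩⟩ := map_low_homology 𝒮 N (d : ℤ) hac (2 * (d : ℤ))
    (fun q hq => ((QCoh.toAbFun X).map_isZero (hG q hq)).of_iso (eN q))
  let eC : ((CxOX.sectZAb j).mapHomologicalComplex (ComplexShape.up ℤ)).obj M ≅
      (𝒮.mapHomologicalComplex (ComplexShape.up ℤ)).obj N :=
    HomologicalComplex.Hom.isoOfComponents (fun i => Iso.refl _)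
      (fun a b _ => (Category.id_comp _).trans (Category.comp_id _).symm)
  let eH := fun q => (HomologicalComplex.homologyFunctor AddCommGrpCat.{u} (ComplexShape.up ℤ) q).mapIso eC
  exact ⟨fun n hn => (h1 n hn).of_iso (eH n), ⟨eH _ ≪≫ h2 ≪≫ 𝒮.mapIso (eN _)⟩⟩

include hdepth hK hKlf in
theorem isZero_homology_RsectZ [CxOX.HasRsectZ j] (n : ℤ) (hn : n < 2 * (d : ℤ)) :
    IsZero ((DerivedCategory.homologyFunctor AddCommGrpCat.{u} n).obj
      ((CxOX.RsectZ j).obj (DCoh.toD X K))) := by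
  obtain ⟨M, hMK, ⟨e⟩, h, -⟩ := exists_rep j d hdepth K hK hKlf
  haveI := hMK
  obtain ⟨i⟩ := nonempty_totalRightDerived_iso (CxOX.sectZAb j) M e n
  exact (h n hn).of_iso i

include hdepth hK hKlf in
theorem nonempty_sections_iso [CxOX.HasRgammaZ j] [CxOX.HasRsectZ j] :
    Nonempty ((GrothSS.secAt (Opens.grothendieckTopology X) ⊤).obj
        ((QCoh.toAbFun X).obj (DCoh.HD ((CxOX.RgammaZ j).obj (DCoh.toD X K)) (2 * (d : ℤ)))) ≅
      (DerivedCategory.homologyFunctor AddCommGrpCat.{u} (2 * (d : ℤ))).obj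
        ((CxOX.RsectZ j).obj (DCoh.toD X K))) := by
  obtain ⟨M, hMK, ⟨e⟩, -, ⟨h⟩⟩ := exists_rep j d hdepth K hK hKlf
  haveI := hMK
  obtain ⟨i⟩ := nonempty_totalRightDerived_iso (CxOX.sectZAb j) M e (2 * (d : ℤ))
  obtain ⟨i'⟩ := nonempty_totalRightDerived_iso (DCoh.gammaZ j) M e (2 * (d : ℤ))
  exact ⟨(GrothSS.secAt (Opens.grothendieckTopology X) ⊤).mapIso ((QCoh.toAbFun X).mapIso i') ≪≫ h.symm ≪≫ i.symm⟩

end GrothLib.DepthHyper22
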