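import Groth.Agent.Lib.LocQCoh25.LC
import Groth.Agent.Lib.LocZ25.Sections

/-! # Sections with support of a module as an abelian sheaf -/

set_option autoImplicit false
set_option linter.style.haveILetI false
set_option maxHeartbeats 800000
set_option backward.isDefEq.respectTransparency false

universe u

open CategoryTheory CategoryTheory.Limits AlgebraicGeometry Opposite TopologicalSpace

namespace GrothLib.DepthHyper22

open GrothLib

variable {U X : Scheme.{u}} (j : U ⟶ X) [IsOpenImmersion j]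

/-- The underlying sheaf of `Γ_Z M` maps to the sections with support of the underlying sheaf. -/
noncomputable def τ (M : X.Modules) :
    (QCoh.toAbFun X).obj ((DCoh.gammaZ j).obj M) ⟶
      (LocCohZ.sectSuppF (X := X.carrier) j.opensRange).obj ((QCoh.toAbFun X).obj M) :=
  kernel.lift _ ((QCoh.toAbFun X).map ((LocQCoh25.gammaι j).app M)) (by
    ext A t
    refine (LocZ.η_eq_zero_iff (X := X.carrier) j.opensRange ((QCoh.toAbFun X).obj M) A.unop _).2 ?_
    have h0 := LocQCoh25.gammaι_vanish j M A.unop t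
    have hle : A.unop ⊓ j.opensRange ≤ j ''ᵁ (j ⁻¹ᵁ A.unop) :=
      le_of_le_of_eq (le_inf inf_le_right inf_le_left) (Scheme.Hom.image_preimage_eq_opensRange_inf j A.unop).symm
    have h2 := congrArg (fun z => M.presheaf.map (homOfLE hle).op z) h0
    simp only [map_zero] at h2
    exact (ConcreteCategory.congr_hom (M.presheaf.map_comp
      (homOfLE (Scheme.Hom.image_preimage_le j A.unop)).op (homOfLE hle).op)
        (((LocQCoh25.gammaι j).app M).app A.unop t)).trans h2)

theorem τ_ι (M : X.Modules) :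
    τ j M ≫ kernel.ι (LocZ.η (X := X.carrier) j.opensRange ((QCoh.toAbFun X).obj M)) =
      (QCoh.toAbFun X).map ((LocQCoh25.gammaι j).app M) :=
  kernel.lift_ι _ _ _

theorem isIso_τ (M : X.Modules) : IsIso (τ j M) := by
  suffices IsIso ((sheafToPresheaf _ AddCommGrpCat.{u}).map (τ j M)) from isIso_of_reflects_iso _ (sheafToPresheaf _ AddCommGrpCat.{u})
  suffices ∀ A, IsIso (((sheafToPresheaf _ AddCommGrpCat.{u}).map (τ j M)).app A) from NatIso.isIso_of_isIso_app _
  intro A
  rw [ConcreteCategory.isIso_iff_bijective]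
  have h : ∀ t, LocZ.ι (X := X.carrier) j.opensRange ((QCoh.toAbFun X).obj M) A.unop ((τ j M).hom.app A t) =
      ((LocQCoh25.gammaι j).app M).app A.unop t := fun t =>
    ConcreteCategory.congr_hom (congrArg (fun k => k.hom.app A) (τ_ι j M)) t
  refine ⟨fun a b e => ?_, fun s => ?_⟩
  · exact LocQCoh25.gammaι_injective j M A.unop ((h a).symm.trans ((congrArg _ e).trans (h b)))
  · have h0 := LocZ.ι_vanish (X := X.carrier) j.opensRange ((QCoh.toAbFun X).obj M) A.unop s
    have hle : j ''ᵁ (j ⁻¹ᵁ A.unop) ≤ A.unop ⊓ j.opensRange :=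
      le_of_eq_of_le (Scheme.Hom.image_preimage_eq_opensRange_inf j A.unop) (le_inf inf_le_right inf_le_left)
    let z : Γ(M, A.unop) := LocZ.ι (X := X.carrier) j.opensRange ((QCoh.toAbFun X).obj M) A.unop s
    obtain ⟨t, ht⟩ := LocQCoh25.exists_gammaι j M A.unop z (by
      have h2 := congrArg (fun z => M.presheaf.map (homOfLE hle).op z) h0
      refine ((ConcreteCategory.congr_hom (M.presheaf.map_comp
        (homOfLE (inf_le_left : A.unop ⊓ j.opensRange ≤ A.unop)).op (homOfLE hle).op) z)).trans ?_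
      exact h2.trans (map_zero _))
    exact ⟨t, LocZ.ι_injective (X := X.carrier) j.opensRange _ A.unop ((h t).trans ht)⟩

/-- `Γ_Z` commutes with the underlying abelian sheaf. -/
noncomputable def τIso :
    DCoh.gammaZ j ⋙ QCoh.toAbFun X ≅ QCoh.toAbFun X ⋙ LocCohZ.sectSuppF (X := X.carrier) j.opensRange :=
  NatIso.ofComponents (fun M => @asIso _ _ _ _ (τ j M) (isIso_τ j M)) (fun {M N} φ => by
    dsimp
    apply (cancel_mono (kernel.ι (LocZ.η (X := X.carrier) j.opensRange ((QCoh.toAbFun X).obj N)))).1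
    have h1 : (LocCohZ.sectSuppF (X := X.carrier) j.opensRange).map ((QCoh.toAbFun X).map φ) ≫
        kernel.ι (LocZ.η (X := X.carrier) j.opensRange ((QCoh.toAbFun X).obj N)) =
        kernel.ι (LocZ.η (X := X.carrier) j.opensRange ((QCoh.toAbFun X).obj M)) ≫ (QCoh.toAbFun X).map φ :=
      kernel.lift_ι _ _ _
    refine (Category.assoc _ _ _).trans ((congrArg (_ ≫ ·) (τ_ι j N)).trans ?_)
    refine Eq.trans ?_ (((congrArg (τ j M ≫ ·) h1).trans ((Category.assoc _ _ _).symm.trans
      (congrArg (· ≫ (QCoh.toAbFun X).map φ) (τ_ι j M)))).symm.trans (Category.assoc _ _ _).symm)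
    exact ((QCoh.toAbFun X).map_comp _ _).symm.trans
      ((congrArg (QCoh.toAbFun X).map ((LocQCoh25.gammaι j).naturality φ)).trans ((QCoh.toAbFun X).map_comp _ _)))

/-- Below the depth along `Z` the local cohomology sheaves of a locally free module vanish. -/
theorem isZero_rightDerived_gammaZ [IsLocallyNoetherian X] [HasInjectiveResolutions X.Modules] (d : ℕ)
    (hdepth : ∀ y : ↥X, y ∉ Set.range j.base →
      (d : ℕ∞) ≤ LocCoh.depth ↑(X.presheaf.stalk y) ↑(X.presheaf.stalk y))
    (M : X.Modules) (hM : FlatMod.IsFinLocFree M) (q : ℕ) (hq : q < d) :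
    IsZero (((DCoh.gammaZ j).rightDerived q).obj M) := by
  have hcoh := GrothLib.Euler.isCoh_of_isFinLocFree hM
  let Ω : X.Opens := j.opensRange
  have h0 : IsZero ((LocCohZ.HZsh (X := X.carrier) Ω q).obj (Coh.toAb M)) :=
    (LocZ25.main M hcoh Ω d).2 (fun x hx => (hdepth x fun ⟨y, hy⟩ => hx ⟨y, hy⟩).trans
      (LocZ25.depth_ge_of_isFinLocFree hM x)) q hq
  let G := LocCohZ.sectSuppF (X := X.carrier) Ω
  haveI : PreservesFiniteLimits G := LocZ.preservesFiniteLimits_sectSuppF Ω
  haveI : (QCoh.toAbFun X).PreservesHomology := Functor.preservesHomologyOfExact _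
  obtain ⟨e⟩ := RDerLES.nonempty_rightDerived_comp_iso (QCoh.toAbFun X) G
    (fun J hJ k => by
      haveI := Cohom.isFlasque_toAb_of_injective J
      exact LocZ.isZero_rightDerived_sectSuppF_of_flasque (X := X.carrier) Ω _ k) q M
  haveI : (QCoh.toAbFun X).Faithful := inferInstanceAs (SheafOfModules.toSheaf _).Faithful
  rw [IsZero.iff_id_eq_zero]
  apply (QCoh.toAbFun X).map_injective
  refine IsZero.eq_of_src ?_ _ _
  exact
    (h0.of_iso ((SheafCoh.rightDerivedPostExactIso (QCoh.toAbFun X ⋙ G) (DCoh.gammaZ j) (QCoh.toAbFun X)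
      (τIso j).symm M q).symm ≪≫ e))

end GrothLib.DepthHyper22
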